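import Cfsg.Agent.H89.FStar.Normal
import Cfsg.Agent.H89.CentE.Main

/-!
The product of the largest normal subgroup with the layer contains its centralizer.
-/

set_option autoImplicit false
set_option linter.style.haveILetI false
set_option linter.unusedSectionVars false

namespace Cfsg.Agent.H89.FStar

open Cfsg Cfsg.FusionSystem Cfsg.Agent.FusionSys Cfsg.Agent.H91.CentFocal
open Cfsg.Agent.H91 (centSys centralizerHom_iff)
open Cfsg.FusionSystem (centralizerIn normalizerIn)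

variable {Ω : Type*} [Group Ω] {S : Subgroup Ω} {F : FusionSystem S} {p : ℕ}
  {U : Subgroup Ω} {D : FusionSystem U} [Finite S] [Fact p.Prime]

theorem exists_fitting (hS : IsPGroup p S) (hF : F.IsSaturated p) :
    ∃ (U : Subgroup Ω) (D : FusionSystem U), D.IsGeneralizedFittingOf F p := by
  obtain ⟨T, E, hE⟩ := Gen.exists_layer hS hF
  obtain ⟨U, D, hD⟩ := (ctx_core hS hF hE).exists_centralProduct
  exact ⟨U, D, T, E, hE, hD⟩

theorem fitting_normal (hS : IsPGroup p S) (hF : F.IsSaturated p)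
    (hD : D.IsGeneralizedFittingOf F p) : D.IsNormalIn F p := by
  obtain ⟨T, E, hE, hcp⟩ := hD
  exact (ctx_core hS hF hE).isNormal hcp

theorem center_centralized (hS : IsPGroup p S) (hF : F.IsSaturated p)
    (hD : D.IsGeneralizedFittingOf F p) :
    D.center ≤ centralizerIn S U ∧ ∀ P : Subgroup Ω, D.Hom P ⊆ F.centralizerHom D.center P := by
  have hDn := fitting_normal hS hF hD
  have hUS : U ≤ S := hDn.1.2.2.2.1.1
  haveI : Finite U := finite_of_le hUS
  have hcen := isCentral_center D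
  have hZU : D.center ≤ U := hcen.1
  refine ⟨fun z hz => FusionSys.mem_centralizerIn.2
    ⟨hUS (hZU hz), fun u hu => center_le_centralizer D hz u hu⟩, fun P φ hφ => ?_⟩
  have hm := isMap_of_mem hφ
  obtain ⟨g, hg, hge, hgZ⟩ := (isCentral_iff.1 hcen).2 P _ hm
  have hU : U ≤ centralizerIn S D.center := fun u hu => FusionSys.mem_centralizerIn.2
    ⟨hUS hu, fun z hz => (center_le_centralizer D hz u hu).symm⟩
  exact mem_hom_of_isMap (F := centSys F (hZU.trans hUS))
    ((isMap_centSys_iff (hZU.trans hUS)).2 ⟨fun x hx => hU (hm.le hx), fun x hx => hU (hm.mem_S hx),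
      g, isMap_of_sub hDn.1.2.2.1 hg, hge, hgZ⟩) fun x => (homFun_coe φ x).symm

theorem le_center_of_centralized (hS : IsPGroup p S) (hF : F.IsSaturated p)
    (hD : D.IsGeneralizedFittingOf F p) {Y : Subgroup Ω} (hY : Y ≤ centralizerIn S U)
    (hYD : ∀ P : Subgroup Ω, D.Hom P ⊆ F.centralizerHom Y P) : Y ≤ D.center := by
  have hDn := fitting_normal hS hF hD
  obtain ⟨T, E, hE, hcp⟩ := hD
  have h := ctx_core hS hF hE
  have hU := h.eq_sup hcp
  have hUS : U ≤ S := hDn.1.2.2.2.1.1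
  haveI : Finite U := finite_of_le hUS
  set W := Subgroup.closure {x | H91.CentSE.Good F D x}
  have hgood : ∀ Y' : Subgroup Ω, Y' ≤ centralizerIn S U →
      (∀ P : Subgroup Ω, D.Hom P ⊆ F.centralizerHom Y' P) → Y' ≤ W := by
    intro Y' hY' hh y hy
    refine Subgroup.subset_closure ⟨hY' hy, fun P f hf => ?_⟩
    obtain ⟨φ, hφ, hφf⟩ := hf
    obtain ⟨-, -, g, hg, hge, hgY⟩ := (centralizerHom_iff F).1 (hh P hφ)
    exact ⟨g, hg.mono (sup_le_sup_left (Subgroup.zpowers_le.2 hy) P),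
      fun z hz => (hge ⟨z, hz⟩).trans (hφf ⟨z, hz⟩), hgY y hy⟩
  have hWC : W ≤ centralizerIn S U :=
    (Subgroup.closure_le _).2 fun y (hy : H91.CentSE.Good F D y) => hy.1
  have hWS : W ≤ S := hWC.trans centralizerIn_le
  haveI : Finite W := finite_of_le hWS
  have hfix : ∀ P f, IsMap D P f →
      ∃ g, IsMap F (P ⊔ W) g ∧ (∀ x ∈ P, g x = f x) ∧ ∀ y ∈ W, g y = y :=
    fun P f hf => H91.CentSE.exists_fixing_good hS hF hDn hf
  have hUC : U ≤ centralizerIn S W := fun u hu => FusionSys.mem_centralizerIn.2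
    ⟨hUS hu, fun y hy => ((FusionSys.mem_centralizerIn.1 (hWC hy)).2 u hu).symm⟩
  have hWD : ∀ P : Subgroup Ω, D.Hom P ⊆ F.centralizerHom W P := fun P φ hφ => by
    have hm := isMap_of_mem hφ
    obtain ⟨g, hg, hge, hgW⟩ := hfix P _ hm
    exact mem_hom_of_isMap (F := centSys F hWS)
      ((isMap_centSys_iff hWS).2 ⟨fun x hx => hUC (hm.le hx), fun x hx => hUC (hm.mem_S hx),
        g, hg, hge, hgW⟩) fun x => (homFun_coe φ x).symm
  obtain ⟨hWc, hfoc⟩ := CentE.closed_of_max hS hF hDn hWC hWD hgood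
  obtain ⟨N, hN, hNT⟩ := CentE.exists_normal hS hF hDn.1.2.2.2.1 hWc hWC hfoc
  have hnoc : ¬ ∃ (V : Subgroup Ω) (C : FusionSystem V), C.IsComponentIn N p := by
    rintro ⟨V, C, hC, hq⟩
    have hCF : C.IsComponentIn F p := ⟨IsSubnormalIn.step hC hN, hq⟩
    have hVT : V ≤ T := Gen.subnormal_le (hE.2.1 V C hCF)
    have hVW : V ≤ W := H59.Transp.subnormal_le hC
    haveI : Finite V := finite_of_le (hVW.trans hWS)
    refine S5148.main (hS.to_le (hVW.trans hWS)) hq ⟨⟨fun a b => Subtype.ext ?_⟩⟩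
    exact (FusionSys.mem_centralizerIn.1 (hWC (hVW b.2))).2 a (hU.ge (Subgroup.mem_sup_right (hVT a.2)))
  obtain ⟨-, R, hR, hRc⟩ := (Lift.constrained_iff (hS.to_le hWS) hN.1.1).2 hnoc
  have hRU : R ≤ U := ((le_core N hR).trans (Lift.core_le hS hN)).trans (hU.ge.trans' le_sup_left)
  have hWU : W ≤ U := fun y hy => hRU (hRc.2 R (isConj_refl N hR.1) (FusionSys.mem_centralizerIn.2
    ⟨hy, fun r hr => (FusionSys.mem_centralizerIn.1 (hWC hy)).2 r (hRU hr)⟩))
  refine (hgood Y hY hYD).trans (le_center D (isCentral_of_singleton (hS.to_le hUS) hDn.1.1 hWU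
    fun P f hf x hx hxW => ?_))
  obtain ⟨g, -, hge, hgW⟩ := hfix P f hf
  rw [← hge x hx, hgW x hxW]

end Cfsg.Agent.H89.FStar
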