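import Cfsg.Agent.S5150
import Cfsg.Agent.S5136
import Cfsg.Agent.H89.Gen.Layer
import Cfsg.Agent.H49.Invariant
import Cfsg.Agent.H49.ProductSaturated
import Cfsg.Agent.H59.TransportNormal
import Cfsg.Prelude.Def_FusionFitting

/-!
The product of the largest normal subgroup with the layer.
-/

set_option autoImplicit false
set_option linter.style.haveILetI false
set_option linter.unusedSectionVars false

namespace Cfsg.Agent.H89.FStar

open Cfsg Cfsg.FusionSystem Cfsg.Agent.FusionSys Cfsg.Agent.H91.CentFocal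
open Cfsg.Agent.H89 (KerEq)
open Cfsg.Agent.H89.Lift (mem_pre)
open Cfsg.FusionSystem (centralizerIn normalizerIn)

variable {Ω : Type*} [Group Ω] {S T : Subgroup Ω} {F : FusionSystem S} {E : FusionSystem T} {p : ℕ}
  {U : Subgroup Ω} {D : FusionSystem U}

/-- The hypotheses: `E` is normal in `F` and centralizes `Q`, which is normal in `F`. -/
structure Ctx (p : ℕ) (F : FusionSystem S) (E : FusionSystem T) (Q : Subgroup Ω) : Prop where
  hS : IsPGroup p S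
  hF : F.IsSaturated p
  hE : E.IsNormalIn F p
  hQ : F.IsNormal Q
  cent : ∀ P, E.Hom P ⊆ F.centralizerHom Q P

theorem ctx_core [Finite S] [Fact p.Prime] (hS : IsPGroup p S) (hF : F.IsSaturated p)
    (hE : E.IsLayerOf F p) : Ctx p F E F.core :=
  ⟨hS, hF, hE.1, isNormal_core F, S5150.result p hS F hF E hE⟩

variable {Q : Subgroup Ω}

namespace Ctx

variable (h : Ctx p F E Q)
include h

theorem T_closed : F.StronglyClosed T := h.hE.1.2.2.2.1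

theorem T_le : T ≤ S := h.T_closed.1

theorem Q_le : Q ≤ S := h.hQ.1

theorem sub : E.IsSubsystemOf F := h.hE.1.2.2.1

theorem fix {P : Subgroup Ω} {f : Ω → Ω} (hf : IsMap E P f) :
    ∃ g, IsMap F (P ⊔ Q) g ∧ (∀ x ∈ P, g x = f x) ∧ ∀ y ∈ Q, g y = y := by
  obtain ⟨φ, hφ, hφe⟩ := hf
  obtain ⟨-, -, g, hg, hge, hgQ⟩ := (H91.centralizerHom_iff F).1 (h.cent P hφ)
  exact ⟨g, hg, fun x hx => (hge ⟨x, hx⟩).trans (hφe ⟨x, hx⟩), hgQ⟩

theorem T_cent : T ≤ centralizerIn S Q := by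
  have hm : IsMap E T id := isMap_id E le_rfl
  obtain ⟨φ, hφ, -⟩ := hm
  exact ((H91.centralizerHom_iff F).1 (h.cent T hφ)).1

theorem comm {q t : Ω} (hq : q ∈ Q) (ht : t ∈ T) : q * t = t * q :=
  (FusionSys.mem_centralizerIn.1 (h.T_cent ht)).2 q hq

theorem fix_mem {P : Subgroup Ω} {f : Ω → Ω} (hf : IsMap E P f) {x : Ω} (hx : x ∈ P) (hxQ : x ∈ Q) :
    f x = x := by
  obtain ⟨g, -, hge, hgQ⟩ := h.fix hf
  rw [← hge x hx, hgQ x hxQ]

theorem central_inf [Finite S] [Fact p.Prime] : E.IsCentral (Q ⊓ T) :=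
  haveI : Finite T := finite_of_le h.T_le
  isCentral_of_singleton (h.hS.to_le h.T_le) h.hE.1.1 inf_le_right
    fun _ _ hf _ hx hxQ => h.fix_mem hf hx hxQ.1

/-- Multiplication `Q × T → Ω`. -/
noncomputable def mul : ↥(Q.prod T) →* Ω where
  toFun x := (x : Ω × Ω).1 * (x : Ω × Ω).2
  map_one' := one_mul 1
  map_mul' := fun a b => by
    show (a : Ω × Ω).1 * (b : Ω × Ω).1 * ((a : Ω × Ω).2 * (b : Ω × Ω).2) = _
    rw [mul_assoc, ← mul_assoc (b : Ω × Ω).1, h.comm b.2.1 a.2.2, mul_assoc, ← mul_assoc, ← mul_assoc]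

theorem mul_apply (x : Q.prod T) : h.mul x = (x : Ω × Ω).1 * (x : Ω × Ω).2 := rfl

theorem range_mul : h.mul.range = Q ⊔ T := by
  refine le_antisymm ?_ (sup_le (fun q hq => ⟨⟨(q, 1), hq, T.one_mem⟩, mul_one q⟩)
    fun t ht => ⟨⟨(1, t), Q.one_mem, ht⟩, one_mul t⟩)
  rintro _ ⟨x, rfl⟩
  exact Subgroup.mul_mem _ (Subgroup.mem_sup_left x.2.1) (Subgroup.mem_sup_right x.2.2)

theorem exists_mul {y : Ω} (hy : y ∈ Q ⊔ T) : ∃ a ∈ Q, ∃ b ∈ T, a * b = y := by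
  rw [← h.range_mul] at hy
  obtain ⟨x, rfl⟩ := hy
  exact ⟨_, x.2.1, _, x.2.2, rfl⟩

theorem exists_mul_sup {R : Subgroup Ω} (hR : R ≤ T) {y : Ω} (hy : y ∈ R ⊔ Q) :
    ∃ a ∈ Q, ∃ b ∈ R, a * b = y := by
  have hle : R ⊔ Q ≤ ((Q.prod R).subgroupOf (Q.prod T)).map h.mul := sup_le
    (fun r hr => ⟨⟨(1, r), Q.one_mem, hR hr⟩,
      Subgroup.mem_subgroupOf.2 ⟨Q.one_mem, hr⟩, one_mul r⟩)
    (fun q hq => ⟨⟨(q, 1), hq, T.one_mem⟩, Subgroup.mem_subgroupOf.2 ⟨hq, R.one_mem⟩, mul_one q⟩)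
  obtain ⟨x, hx, rfl⟩ := hle hy
  exact ⟨_, (Subgroup.mem_subgroupOf.1 hx).1, _, (Subgroup.mem_subgroupOf.1 hx).2, rfl⟩

theorem sup_inf {R : Subgroup Ω} (hR : R ≤ T) : (R ⊔ Q) ⊓ T ≤ R ⊔ Q ⊓ T := by
  rintro y ⟨hy, hyT⟩
  obtain ⟨a, ha, b, hb, rfl⟩ := h.exists_mul_sup hR hy
  refine Subgroup.mul_mem _ (Subgroup.mem_sup_right ⟨ha, ?_⟩) (Subgroup.mem_sup_left hb)
  have := T.mul_mem hyT (T.inv_mem (hR hb))
  rwa [mul_inv_cancel_right] at this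

theorem sup_eq {P : Subgroup Ω} (hP : P ≤ Q ⊔ T) : P ≤ ((P ⊔ Q) ⊓ T) ⊔ Q := fun x hx => by
  obtain ⟨a, ha, b, hb, rfl⟩ := h.exists_mul (hP hx)
  refine Subgroup.mul_mem _ (Subgroup.mem_sup_right ha) (Subgroup.mem_sup_left ⟨?_, hb⟩)
  have := (P ⊔ Q).mul_mem (Subgroup.mem_sup_right (Q.inv_mem ha)) (Subgroup.mem_sup_left hx)
  rwa [inv_mul_cancel_left] at this

theorem closed [Finite S] : F.StronglyClosed (Q ⊔ T) := by
  refine stronglyClosed_iff.2 ⟨sup_le h.Q_le h.T_le, fun R f hR hf x hx => ?_⟩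
  obtain ⟨g, hg, hge, hgQ⟩ := (isNormal_iff.1 h.hQ).2 R f hf
  obtain ⟨a, ha, b, hb, rfl⟩ := h.exists_mul (hR hx)
  have haX : a ∈ R ⊔ Q := Subgroup.mem_sup_right ha
  have hbX : b ∈ R ⊔ Q := by
    have := (R ⊔ Q).mul_mem ((R ⊔ Q).inv_mem haX) (Subgroup.mem_sup_left hx)
    rwa [inv_mul_cancel_left] at this
  rw [← hge _ hx, hg.map_mul haX hbX]
  exact Subgroup.mul_mem _ (Subgroup.mem_sup_left (hgQ.le ⟨a, ha, rfl⟩))
    (Subgroup.mem_sup_right (mem_of_stronglyClosed h.T_closed hg hbX hb))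

end Ctx

/-- `f` is conjugation by an element of `Q` after a map of `E` extended to fix `Q`. -/
def DMap (F : FusionSystem S) (E : FusionSystem T) (Q P : Subgroup Ω) (f : Ω → Ω) : Prop :=
  ∃ q ∈ Q, ∃ (R : Subgroup Ω) (g : Ω → Ω), R ≤ T ∧ IsMap F (R ⊔ Q) g ∧ IsMap E R g ∧
    (∀ a ∈ Q, g a = a) ∧ P ≤ R ⊔ Q ∧ ∀ x ∈ P, f x = conjMap q (g x)

namespace Ctx

variable [Finite S] [Fact p.Prime] (h : Ctx p F E Q)
include h

theorem exists_product : ∃ D₀ : FusionSystem (Q.prod T),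
    IsProductSystem (innerFusionSystem Q) E D₀ :=
  haveI : Finite Q := finite_of_le h.Q_le
  haveI : Finite T := finite_of_le h.T_le
  S5136.result p (h.hS.to_le h.Q_le) (h.hS.to_le h.T_le) (innerFusionSystem Q) E

variable {D₀ : FusionSystem (Q.prod T)}

theorem finite_prod : Finite (Q.prod T) :=
  haveI : Finite Q := finite_of_le h.Q_le
  haveI : Finite T := finite_of_le h.T_le
  Finite.of_equiv _ (Q.prodEquiv T).symm.toEquiv

theorem prod_pGroup : IsPGroup p (Q.prod T) := by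
  intro x
  obtain ⟨i, hi⟩ := h.hS.to_le h.Q_le ⟨x.1.1, x.2.1⟩
  obtain ⟨j, hj⟩ := h.hS.to_le h.T_le ⟨x.1.2, x.2.2⟩
  refine ⟨i + j, Subtype.ext (Prod.ext ?_ ?_)⟩
  · have : x.1.1 ^ p ^ i = 1 := congrArg Subtype.val hi
    show x.1.1 ^ p ^ (i + j) = 1
    rw [pow_add, pow_mul, this, one_pow]
  · have : x.1.2 ^ p ^ j = 1 := congrArg Subtype.val hj
    show x.1.2 ^ p ^ (i + j) = 1
    rw [pow_add, mul_comm, pow_mul, this, one_pow]

theorem product_saturated (hD₀ : IsProductSystem (innerFusionSystem Q) E D₀) : D₀.IsSaturated p :=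
  haveI : Finite Q := finite_of_le h.Q_le
  haveI : Finite T := finite_of_le h.T_le
  H49.isSaturated_product (h.hS.to_le h.Q_le) (h.hS.to_le h.T_le)
    (H90.inner_isSaturated (h.hS.to_le h.Q_le)) h.hE.1.1 hD₀

omit [Finite S] [Fact p.Prime] in
theorem ker_mem {x : Ω × Ω} (hx : x ∈ h.mul.ker.map (Q.prod T).subtype) :
    x.1 ∈ Q ∧ x.2 ∈ T ∧ x.1 ∈ T ∧ x.2 ∈ Q ∧ x.1 * x.2 = 1 := by
  obtain ⟨s, hs, rfl⟩ := hx
  have h1 : (s : Ω × Ω).1 * (s : Ω × Ω).2 = 1 := hs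
  refine ⟨s.2.1, s.2.2, ?_, ?_, h1⟩
  · show (s : Ω × Ω).1 ∈ T
    rw [eq_inv_of_mul_eq_one_left h1]
    exact T.inv_mem s.2.2
  · show (s : Ω × Ω).2 ∈ Q
    rw [eq_inv_of_mul_eq_one_right h1]
    exact Q.inv_mem s.2.1

theorem ker_central (hD₀ : IsProductSystem (innerFusionSystem Q) E D₀) :
    D₀.IsCentral (h.mul.ker.map (Q.prod T).subtype) := by
  haveI := h.finite_prod
  refine isCentral_of_singleton h.prod_pGroup (h.product_saturated hD₀)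
    (Subgroup.map_subtype_le _) fun P f hf x hx hxZ => ?_
  obtain ⟨h1, -, h3, h4, -⟩ := h.ker_mem hxZ
  obtain ⟨-, f₁, f₂, hf₁, hf₂, he⟩ := H49.isMap_product hD₀ hf
  obtain ⟨hle, g, hg, hge⟩ := isMap_inner_iff.1 hf₁
  rw [he x hx]
  refine Prod.ext ?_ (h.fix_mem hf₂ (H49.mem_prj₂ hx) h4)
  show f₁ x.1 = x.1
  rw [hge _ (H49.mem_prj₁ hx), h.comm hg h3, mul_inv_cancel_right]

theorem ker_inf_left :
    h.mul.ker.map (Q.prod T).subtype ⊓ Q.prod ⊥ = ⊥ := by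
  refine le_bot_iff.1 fun x hx => ?_
  have h1 := (h.ker_mem hx.1).2.2.2.2
  have h2 : x.2 = 1 := Subgroup.mem_bot.1 hx.2.2
  rw [h2, mul_one] at h1
  exact Prod.ext h1 h2

theorem ker_inf_right :
    h.mul.ker.map (Q.prod T).subtype ⊓ (⊥ : Subgroup Ω).prod T = ⊥ := by
  refine le_bot_iff.1 fun x hx => ?_
  have h1 := (h.ker_mem hx.1).2.2.2.2
  have h2 : x.1 = 1 := Subgroup.mem_bot.1 hx.2.1
  rw [h2, one_mul] at h1
  exact Prod.ext h2 h1

/-- A central product of the inner system of `Q` and `E` exists. -/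
theorem exists_centralProduct :
    ∃ (U : Subgroup Ω) (D : FusionSystem U), IsCentralProductOf (innerFusionSystem Q) E D := by
  obtain ⟨D₀, hD₀⟩ := h.exists_product
  haveI := h.finite_prod
  have hZ := h.ker_central hD₀
  have hθ : KerEq h.mul (h.mul.ker.map (Q.prod T).subtype) := fun s =>
    ⟨fun hs => ⟨s, hs, rfl⟩, fun ⟨s', hs', he⟩ => Subtype.ext he ▸ hs'⟩
  have hR := stronglyClosed_of_normal (ComponentFix.isNormal_of_isCentral hZ)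
  exact ⟨_, factorSystem h.mul hθ hR rfl, D₀, hD₀, _, h.mul, le_center D₀ hZ, h.ker_inf_left,
    h.ker_inf_right, fun x _ => mul_one x, fun y _ => one_mul y,
    isFactorSystem_factorSystem h.mul hθ hR rfl⟩

variable {U : Subgroup Ω} {D : FusionSystem U}

omit [Finite S] [Fact p.Prime] in
theorem theta_eq {θ : ↥(Q.prod T) →* Ω}
    (hθ1 : ∀ (x : Ω) (hx : ((x, 1) : Ω × Ω) ∈ Q.prod T), θ ⟨(x, 1), hx⟩ = x)
    (hθ2 : ∀ (y : Ω) (hy : ((1, y) : Ω × Ω) ∈ Q.prod T), θ ⟨(1, y), hy⟩ = y) (s : Q.prod T) :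
    θ s = (s : Ω × Ω).1 * (s : Ω × Ω).2 := by
  obtain ⟨⟨a, b⟩, ha, hb⟩ := s
  show θ ⟨(a, b), ha, hb⟩ = a * b
  rw [show (⟨(a, b), ha, hb⟩ : Q.prod T) = ⟨(a, 1), ha, T.one_mem⟩ * ⟨(1, b), Q.one_mem, hb⟩ from
    Subtype.ext (Prod.ext (mul_one a).symm (one_mul b).symm)]
  exact (map_mul θ _ _).trans (congrArg₂ (· * ·) (hθ1 a ⟨ha, T.one_mem⟩) (hθ2 b ⟨Q.one_mem, hb⟩))

theorem eq_sup (hD : IsCentralProductOf (innerFusionSystem Q) E D) : U = Q ⊔ T := by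
  obtain ⟨D₀, -, Z, θ, -, -, -, hθ1, hθ2, hfac⟩ := hD
  rw [← h.range_mul, ← hfac.2.2.1]
  congr 1
  ext s
  exact h.theta_eq hθ1 hθ2 s

theorem isMap_iff (hD : IsCentralProductOf (innerFusionSystem Q) E D) {P : Subgroup Ω} {f : Ω → Ω} :
    IsMap D P f ↔ DMap F E Q P f := by
  have hU := h.eq_sup hD
  obtain ⟨D₀, hD₀, Z, θ, -, -, -, hθ1, hθ2, hfac⟩ := hD
  have hθ := h.theta_eq hθ1 hθ2
  have hmem : ∀ {a b : Ω}, a ∈ Q → b ∈ T → a * b ∈ P → (a, b) ∈ preimageAlong θ P :=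
    fun {a b} ha hb hab => mem_preimageAlong.2 ⟨⟨ha, hb⟩, by rw [hθ]; exact hab⟩
  constructor
  · rintro ⟨φ', hφ', hφe⟩
    obtain ⟨hP, φ, hφ, hle, hv, hP', hi⟩ := (hfac.2.2.2 P φ').1 hφ'
    obtain ⟨-, f₁, f₂, hf₁, hf₂, he⟩ := H49.isMap_product hD₀ (isMap_of_mem hφ)
    obtain ⟨-, q, hq, hqe⟩ := isMap_inner_iff.1 hf₁
    obtain ⟨g, hg, hge, hgQ⟩ := h.fix hf₂
    refine ⟨q, hq, H49.prj₂ (preimageAlong θ P), g, hf₂.le, hg, hf₂.congr hge, hgQ, ?_, ?_⟩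
    · intro x hx
      obtain ⟨a, ha, b, hb, rfl⟩ := h.exists_mul (hU ▸ hP hx)
      exact Subgroup.mul_mem _ (Subgroup.mem_sup_right ha)
        (Subgroup.mem_sup_left (H49.mem_prj₂ (hmem ha hb hx)))
    · intro x hx
      obtain ⟨a, ha, b, hb, rfl⟩ := h.exists_mul (hU ▸ hP hx)
      have hm := hmem ha hb hx
      have hs := hi ⟨_, hm⟩
      rw [show (⟨θ ⟨(a, b), hle hm⟩, hP' ⟨_, hm⟩⟩ : P) = ⟨a * b, hx⟩ from
        Subtype.ext (hθ _), hφe, hθ] at hs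
      have hφv := he _ hm
      rw [homFun_mem φ hm] at hφv
      simp only [hφv] at hs
      have hb2 : b ∈ H49.prj₂ (preimageAlong θ P) := H49.mem_prj₂ hm
      rw [hg.map_mul (Subgroup.mem_sup_right ha) (Subgroup.mem_sup_left hb2), hgQ a ha, hge b hb2, hs]
      simp only [H49.pairFun, conjMap_apply, hqe a (H49.mem_prj₁ hm)]
      have hc := h.comm hq (hf₂.mem_S hb2)
      calc q * a * q⁻¹ * f₂ b = q * a * q⁻¹ * (f₂ b * q) * q⁻¹ := by group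
        _ = _ := by rw [← hc]; group
  · rintro ⟨q, hq, R, g, hR, hgF, hgE, hgQ, hPR, hfe⟩
    have hZ := h.central_inf
    obtain ⟨e, he, hee, heQ⟩ := (isCentral_iff.1 hZ).2 R g hgE
    have hgE' : IsMap E (R ⊔ Q ⊓ T) g := he.congr fun x hx =>
      ((hgF.mono (sup_le_sup_left inf_le_left R)).eqOn_sup (isMap_of_sub h.sub he) (fun z hz => (hee z hz).symm)
        (fun z hz => by rw [hgQ z hz.1, heQ z hz]) hx)
    have hPU : P ≤ U := hU.symm ▸ hPR.trans (sup_le (hR.trans le_sup_right) le_sup_left)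
    have hpre : preimageAlong θ P ≤ Q.prod T := preimageAlong_le θ P
    have hprj : H49.prj₂ (preimageAlong θ P) ≤ R ⊔ Q ⊓ T := by
      rintro _ ⟨x, hx, rfl⟩
      obtain ⟨hxm, hxP⟩ := mem_preimageAlong.1 hx
      rw [hθ] at hxP
      refine h.sup_inf hR ⟨?_, hxm.2⟩
      have := (R ⊔ Q).mul_mem ((R ⊔ Q).inv_mem (Subgroup.mem_sup_right hxm.1)) (hPR hxP)
      rwa [inv_mul_cancel_left] at this
    have h₁ : IsMap (innerFusionSystem Q) (H49.prj₁ (preimageAlong θ P)) (conjMap q) :=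
      isMap_conj (innerFusionSystem Q) (by rintro _ ⟨x, hx, rfl⟩; exact (hpre hx).1) hq
    obtain ⟨φ, hφ, hφe⟩ := H49.isMap_pair hD₀ hpre h₁ (hgE'.mono hprj)
    have hgS : IsMap F P (conjMap q ∘ g) :=
      (hgF.mono hPR).comp (isMap_conj F le_rfl (h.Q_le hq)) fun x hx => hgF.mem_S (hPR hx)
    obtain ⟨φ', -, hφ'e⟩ := hgS
    refine ⟨φ', (hfac.2.2.2 P φ').2 ⟨hPU, φ, hφ, hpre, fun x => (D₀.le_of_mem hφ).2 x,
      fun x => (mem_preimageAlong.1 x.2).2, fun x => ?_⟩,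
      fun x => (hφ'e x).trans (hfe x x.2).symm⟩
    rw [hφ'e]
    show conjMap q (g (θ ⟨(x : Ω × Ω), hpre x.2⟩)) = θ ⟨φ x, _⟩
    rw [hθ, hθ]
    show _ = (φ x).1 * (φ x).2
    rw [hφe x]
    have hb : (x : Ω × Ω).2 ∈ R ⊔ Q := sup_le_sup_left inf_le_left R (hprj (H49.mem_prj₂ x.2))
    rw [hgF.map_mul (Subgroup.mem_sup_right (hpre x.2).1) hb, hgQ _ (hpre x.2).1]
    simp only [H49.pairFun, conjMap_apply]
    have hc := h.comm hq (hgE'.mem_S (hprj (H49.mem_prj₂ x.2)))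
    calc q * ((x : Ω × Ω).1 * g (x : Ω × Ω).2) * q⁻¹
        = q * (x : Ω × Ω).1 * q⁻¹ * (q * g (x : Ω × Ω).2) * q⁻¹ := by group
      _ = _ := by rw [hc]; group

theorem saturated (hD : IsCentralProductOf (innerFusionSystem Q) E D) : D.IsSaturated p := by
  obtain ⟨D₀, hD₀, Z, θ, hZ, -, -, -, -, hfac⟩ := hD
  haveI := h.finite_prod
  have hsc : D₀.StronglyClosed Z := stronglyClosed_iff.2 ⟨hfac.1, fun R f hR hf x hx => by
    rw [fix_of_isCentral (isCentral_center D₀) hf hx (hZ (hR hx))]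
    exact hR hx⟩
  exact H49.isSaturated_factor h.prod_pGroup (h.product_saturated hD₀) hsc hfac

theorem isSubsystemOf (hD : IsCentralProductOf (innerFusionSystem Q) E D) : D.IsSubsystemOf F := by
  refine isSubsystemOf_iff_isMap.2 fun P f hf => ?_
  obtain ⟨q, hq, R, g, -, hgF, -, -, hPR, hfe⟩ := (h.isMap_iff hD).1 hf
  exact ((hgF.mono hPR).comp (isMap_conj F le_rfl (h.Q_le hq))
    fun x hx => hgF.mem_S (hPR hx)).congr hfe

end Ctx

end Cfsg.Agent.H89.FStar
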