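import Cfsg.Agent.H89.FStar.Basic

/-!
The product of the largest normal subgroup with the layer is a normal subsystem.
-/

set_option autoImplicit false
set_option linter.style.haveILetI false
set_option linter.unusedSectionVars false

namespace Cfsg.Agent.H89.FStar

open Cfsg Cfsg.FusionSystem Cfsg.Agent.FusionSys Cfsg.Agent.H91.CentFocal
open Cfsg.Agent.H89.ResidualNormal (maps_top map_cent_top)
open Cfsg.FusionSystem (centralizerIn normalizerIn)

variable {Ω : Type*} [Group Ω] {S T : Subgroup Ω} {F : FusionSystem S} {E : FusionSystem T} {p : ℕ}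
  {U Q : Subgroup Ω} {D : FusionSystem U} [Finite S] [Fact p.Prime]

/-- An invariant subsystem is strongly invariant. -/
theorem strongInv_of_invariant (hE : E.IsInvariantIn F) : H49.StrongInv F E := by
  intro P R f s hf hPR hR hfR hs
  obtain ⟨a, ha, g₀, hg₀, hse⟩ := frattini_map hE hR hs
  obtain ⟨k, hk, hke⟩ := (hg₀.mono hPR).exists_inv
  have hkm : ∀ y ∈ imgSub g₀ P, k y ∈ P := fun y hy => by
    obtain ⟨x, hx, rfl⟩ := (hg₀.mono hPR).mem_imgSub.1 hy
    rwa [hke x hx]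
  have h1 : IsMap E (imgSub g₀ P) (g₀ ∘ (f ∘ k)) :=
    (hk.comp hf hkm).comp hg₀ fun y hy => hfR _ (hkm y hy)
  obtain ⟨χ, hχ, hχe⟩ := invariant_map hE ha h1
  have hg₀T : imgSub g₀ P ≤ T := h1.le
  have ham : IsMap F (imgSub g₀ P) (autMap a) :=
    ((mem_autGroup_iff hE.2.1.1).1 ha).mono hg₀T
  refine ⟨χ, hχ.mono fun y hy => ?_, fun x hx => ?_⟩
  · obtain ⟨x, hx, rfl⟩ := (hs.mono hPR).mem_imgSub.1 hy
    rw [hse x (hPR hx)]
    exact ham.mem_imgSub.2 ⟨_, (hg₀.mono hPR).mem_imgSub.2 ⟨x, hx, rfl⟩, rfl⟩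
  · rw [hse x (hPR hx), hχe _ ((hg₀.mono hPR).mem_imgSub.2 ⟨x, hx, rfl⟩), hse _ (hfR x hx),
      Function.comp_apply, Function.comp_apply, hke x hx]

namespace Ctx

variable (h : Ctx p F E Q) (hD : IsCentralProductOf (innerFusionSystem Q) E D)
include h hD

theorem closed_U : F.StronglyClosed U := by
  rw [h.eq_sup hD]; exact h.closed

theorem strongInv : H49.StrongInv F D := by
  intro P R₀ f s hf hPR hR₀ hfR hs
  obtain ⟨q, hq, R, g, hR, hgF, hgE, hgQ, hPRQ, hfe⟩ := (h.isMap_iff hD).1 hf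
  have hU := h.eq_sup hD
  obtain ⟨A, hA, hAe, hAQ⟩ := (isNormal_iff.1 h.hQ).2 R₀ s hs
  set W := (R₀ ⊔ Q) ⊓ T with hW
  set P₂ := (P ⊔ Q) ⊓ T with hP₂
  have hP₂W : P₂ ≤ W := inf_le_inf_right T (sup_le_sup_right hPR Q)
  have hP₂R : P₂ ≤ R ⊔ Q ⊓ T := fun y hy => h.sup_inf hR ⟨sup_le hPRQ le_sup_right hy.1, hy.2⟩
  obtain ⟨e, he, hee, heQ⟩ := (isCentral_iff.1 h.central_inf).2 R g hgE
  have hgP₂ : IsMap E P₂ g := (he.mono hP₂R).congr fun x hx =>
    ((hgF.mono (sup_le_sup_left inf_le_left R)).eqOn_sup (isMap_of_sub h.sub he)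
      (fun z hz => (hee z hz).symm) (fun z hz => by rw [hgQ z hz.1, heQ z hz]) (hP₂R hx))
  have hgP : IsMap F (P ⊔ Q) g := hgF.mono (sup_le hPRQ le_sup_right)
  have hgW : ∀ y ∈ P₂, g y ∈ W := fun y hy =>
    ⟨hgP.mapsTo_sup (C := R₀ ⊔ Q) (fun x hx => by
        have e1 : g x = q⁻¹ * f x * q := by rw [hfe x hx, conjMap_apply]; group
        rw [e1]
        exact Subgroup.mul_mem _ (Subgroup.mul_mem _ (Subgroup.mem_sup_right (Q.inv_mem hq))
          (Subgroup.mem_sup_left (hfR x hx))) (Subgroup.mem_sup_right hq))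
      (fun a ha => Subgroup.mem_sup_right ((hgQ a ha).symm ▸ ha)) hy.1, hgP₂.mem_S hy⟩
  obtain ⟨c₀, hc₀, hc₀e⟩ := strongInv_of_invariant h.hE.1.2.2 P₂ W g A hgP₂ hP₂W inf_le_right hgW
    (hA.mono inf_le_left)
  obtain ⟨g', hg', hg'e, hg'Q⟩ := h.fix hc₀
  have hAq : A q ∈ Q := hAQ.le ⟨q, hq, rfl⟩
  have hP2 : P ≤ P₂ ⊔ Q := h.sup_eq (hU ▸ hf.le)
  have hsplit : ∀ x ∈ P, ∃ a ∈ Q, ∃ b ∈ P₂, x = a * b := fun x hx => by
    obtain ⟨a, ha, b, hb, hab⟩ := h.exists_mul_sup (R := P₂) inf_le_right (hP2 hx)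
    exact ⟨a, ha, b, hb, hab.symm⟩
  have hAm : IsMap F (R₀ ⊔ Q) A := hA
  have hbX : ∀ b ∈ P₂, b ∈ R₀ ⊔ Q := fun b hb => (hP₂W hb).1
  have hA2 : ∀ b ∈ P₂, A b ∈ imgSub A P₂ := fun b hb =>
    (hA.mono (fun y hy => hbX y hy)).mem_imgSub.2 ⟨b, hb, rfl⟩
  have hle : imgSub s P ≤ imgSub A P₂ ⊔ Q := fun y hy => by
    obtain ⟨x, hx, rfl⟩ := (hs.mono hPR).mem_imgSub.1 hy
    obtain ⟨a, ha, b, hb, rfl⟩ := hsplit x hx
    rw [← hAe _ (hPR hx), hA.map_mul (Subgroup.mem_sup_right ha) (hbX b hb)]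
    exact Subgroup.mul_mem _ (Subgroup.mem_sup_right (hAQ.le ⟨a, ha, rfl⟩))
      (Subgroup.mem_sup_left (hA2 b hb))
  refine ⟨conjMap (A q) ∘ g', (h.isMap_iff hD).2
    ⟨A q, hAq, imgSub A P₂, g', hc₀.le, hg', hc₀.congr hg'e, hg'Q, hle, fun _ _ => rfl⟩,
    fun x hx => ?_⟩
  obtain ⟨a, ha, b, hb, rfl⟩ := hsplit x hx
  have haX : a ∈ R₀ ⊔ Q := Subgroup.mem_sup_right ha
  have hqX : q ∈ R₀ ⊔ Q := Subgroup.mem_sup_right hq
  have hgbX : g b ∈ R₀ ⊔ Q := (hgW b hb).1
  rw [Function.comp_apply, ← hAe _ (hPR hx), ← hAe _ (hfR _ hx), hfe _ hx,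
    hA.map_mul haX (hbX b hb),
    hg'.map_mul (Subgroup.mem_sup_right (hAQ.le ⟨a, ha, rfl⟩)) (Subgroup.mem_sup_left (hA2 b hb)),
    hg'Q _ (hAQ.le ⟨a, ha, rfl⟩), hg'e _ (hA2 b hb), hc₀e b hb,
    hgP.map_mul (Subgroup.mem_sup_right ha) hb.1, hgQ a ha, conjMap_apply, conjMap_apply,
    hA.map_conj hqX ((R₀ ⊔ Q).mul_mem haX hgbX), hA.map_mul haX hgbX]

theorem isWeaklyNormal : D.IsWeaklyNormalIn F p := by
  refine ⟨h.saturated hD, h.hF, H59.Transp.isInvariant_iff_isMap.2 ⟨h.isSubsystemOf hD, h.closed_U hD,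
    fun P f hf α hα => ?_, fun P f hP hf => ?_⟩⟩
  · have ham : IsMap F U (autMap α) := (mem_autGroup_iff (h.closed_U hD).1).1 hα
    obtain ⟨c, hc, hce⟩ := h.strongInv hD P U f _ hf hf.le le_rfl (fun x hx => hf.mem_S hx) ham
    refine hc.congr fun y hy => ?_
    obtain ⟨x, hx, rfl⟩ := (ham.mono hf.le).mem_imgSub.1 hy
    rw [hce x hx]
    show autMap α (f (autMap α⁻¹ (autMap α x))) = _
    rw [S5114.inv_autMap_apply α (hf.le hx)]
  · obtain ⟨a, ha, g, hg, hge⟩ := H49.factors_all h.hS h.hF (h.isSubsystemOf hD) (h.closed_U hD)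
      (h.strongInv hD) _ P f le_rfl hP hf
    obtain ⟨α, hα, hαe⟩ := ha.exists_aut
    exact ⟨α, hα, g, hg, fun x hx => (hge x hx).trans (hαe _ (hg.mem_S hx)).symm⟩

omit hD in
/-- An automorphism of the layer extends to `T C_S(T)`, fixing `Q` and trivially modulo `Z(T)`. -/
theorem exists_ext_fix {a : MulAut T} (ha : a ∈ E.autGroup T) :
    ∃ b, IsMap F (T ⊔ centralizerIn S T) b ∧ (∀ t ∈ T, b t = autMap a t) ∧ (∀ q ∈ Q, b q = q) ∧
      ∀ c ∈ centralizerIn S T, c⁻¹ * b c ∈ T := by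
  have hT := h.T_closed
  haveI : Finite T := finite_of_le h.T_le
  haveI := finite_mulAut_of_le (le_refl T)
  have hQC : Q ≤ centralizerIn S T := fun q hq => FusionSys.mem_centralizerIn.2
    ⟨h.Q_le hq, fun t ht => (h.comm hq ht).symm⟩
  let G : Submonoid (MulAut T) :=
    { carrier := {a | ∃ b, IsMap F (T ⊔ centralizerIn S T) b ∧ (∀ t ∈ T, b t = autMap a t) ∧
        (∀ q ∈ Q, b q = q) ∧ ∀ c ∈ centralizerIn S T, c⁻¹ * b c ∈ T}
      one_mem' := ⟨id, isMap_id F (sup_le hT.1 centralizerIn_le),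
        fun t ht => (FusionSys.autMap_one ht).symm, fun _ _ => rfl,
        fun c _ => by rw [id_eq, inv_mul_cancel]; exact T.one_mem⟩
      mul_mem' := by
        rintro a₁ a₂ ⟨b₁, hb₁, h1, h1Q, h1c⟩ ⟨b₂, hb₂, h2, h2Q, h2c⟩
        refine ⟨b₁ ∘ b₂, hb₂.comp hb₁ fun y hy => maps_top hT hb₂ hy, fun t ht => ?_, fun q hq => ?_,
          fun c hc => ?_⟩
        · rw [Function.comp_apply, h2 t ht, h1 _ (autMap_mem _ ht), autMap_mul _ _ ht]
        · rw [Function.comp_apply, h2Q q hq, h1Q q hq]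
        · have := T.mul_mem (h2c c hc) (h1c _ (map_cent_top hT hb₂ hc))
          rwa [mul_assoc, mul_inv_cancel_left] at this }
  suffices hall : (E.autGroup T).toSubmonoid ≤ G from hall ha
  let G' : Subgroup (E.autGroup T) :=
    { G.comap (E.autGroup T).subtype with
      inv_mem' := fun {x} hx => by
        haveI := finite_autGroup E (le_refl T)
        have e : x⁻¹ = x ^ (orderOf x - 1) := inv_eq_of_mul_eq_one_left (by
          rw [← pow_succ, Nat.sub_add_cancel (orderOf_pos x), pow_orderOf_eq_one])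
        show x⁻¹ ∈ G.comap (E.autGroup T).subtype
        rw [e]
        exact pow_mem hx _ }
  haveI := finite_autGroup E (le_refl T)
  have hTp := h.hS.to_le h.T_le
  have hTn : E.IsFullyNormalized T := ⟨le_rfl, fun R hR => by rw [eq_S_of_isConj hR]⟩
  have hsy := isSylowIn_of_fullyAutomized hTp
    (isFullyAutomized_of_isFullyNormalized hTp h.hE.1.1 hTn)
  suffices htop : G' = ⊤ from fun x hx => htop.ge (Subgroup.mem_top (⟨x, hx⟩ : E.autGroup T))
  refine top_le_iff.1 ((Fusion.sylow_sup_pResidual hsy.toSylow).ge.trans (sup_le (fun y hy => ?_) ?_))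
  · rw [hsy.coe_toSylow] at hy
    obtain ⟨t, ht, htn, hye⟩ := mem_autInducedBy.1 (Subgroup.mem_subgroupOf.1 hy)
    refine ⟨conjMap t, isMap_conj F (sup_le hT.1 centralizerIn_le) (hT.1 ht),
      fun z hz => ?_, fun q hq => ?_, fun c hc => ?_⟩
    · show _ = autMap (y : MulAut T) z
      rw [show ((y : E.autGroup T) : MulAut T) = conjAut htn from hye]
      exact (autMap_conjAut htn hz).symm
    · rw [conjMap_apply, ← h.comm hq ht, mul_inv_cancel_right]
    · rw [conjMap_apply, (FusionSys.mem_centralizerIn.1 hc).2 t ht, mul_inv_cancel_right,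
        inv_mul_cancel]
      exact T.one_mem
  · refine Cores.pResidual_le fun y hy => ?_
    have hyp : (orderOf (y : MulAut T)).Coprime p := by rwa [Subgroup.orderOf_coe]
    obtain ⟨β, hβ, hβT, hβc⟩ := h.hE.2 y y.2
    have hX : T ⊔ centralizerIn S T ≤ S := sup_le hT.1 centralizerIn_le
    have hβm : IsMap F (T ⊔ centralizerIn S T) (autMap β) := (mem_autGroup_iff hX).1 hβ
    obtain ⟨k, n, hn, hbk, hper, hfix⟩ := exists_pPrime_power (p := p) hβm fun x hx => autMap_mem β hx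
    set B := (autMap β)^[k] with hBdef
    have hβ1 : ∀ z ∈ T, autMap β z = autMap (y : MulAut T) z := fun z hz => by
      rw [autMap_apply β (Subgroup.mem_sup_left hz), autMap_apply _ hz]
      exact hβT ⟨z, hz⟩
    have hBT : ∀ t ∈ T, B t = autMap (y : MulAut T) t := fun t ht => by
      rw [hfix t (Subgroup.mem_sup_left ht) _ hyp (by
        rw [autMap_pow _ hβ1 _ ht, pow_orderOf_eq_one, FusionSys.autMap_one ht]), hβ1 t ht]
    have hβmod : ∀ c ∈ centralizerIn S T, c⁻¹ * autMap β c ∈ T := fun c hc => by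
      rw [autMap_apply β (Subgroup.mem_sup_right hc)]
      exact (hβc ⟨c, Subgroup.mem_sup_right hc⟩ hc).1
    have hBmod : ∀ c ∈ centralizerIn S T, c⁻¹ * B c ∈ T := fun c hc => by
      have hC : ∀ c ∈ centralizerIn S T, autMap β c ∈ centralizerIn S T :=
        fun c hc => map_cent_top hT hβm hc
      exact iterate_mod hC hβmod k hc
    refine ⟨B, hbk, hBT, fun q hq => ?_, hBmod⟩
    have hqX : q ∈ T ⊔ centralizerIn S T := Subgroup.mem_sup_right (hQC hq)
    set z := q⁻¹ * B q with hzdef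
    have hzT : z ∈ T := hBmod q (hQC hq)
    have hzQ : z ∈ Q := Q.mul_mem (Q.inv_mem hq) (mem_of_normal h.hQ hbk hqX hq)
    have hBz : B z = z := by
      rw [hBT z hzT]
      exact h.fix_mem ((mem_autGroup_iff le_rfl).1 y.2) hzT hzQ
    have key : ∀ j : ℕ, B^[j] q = q * z ^ j := by
      intro j
      induction j with
      | zero => simp
      | succ j ih =>
        rw [Function.iterate_succ_apply', ih,
          hbk.map_mul hqX (Subgroup.mem_sup_left (T.pow_mem hzT j)),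
          hbk.map_pow (Subgroup.mem_sup_left hzT), hBz, show B q = q * z by
            rw [hzdef, mul_inv_cancel_left], pow_succ', mul_assoc]
    have h1 : z ^ n = 1 := by
      have := key n
      rw [hper q hqX] at this
      exact mul_left_cancel (a := q) (this.symm.trans (mul_one q).symm)
    have hz1 : z ∈ (⊥ : Subgroup Ω) := mem_of_pow_mem h.hS (h.T_le hzT) hn (by rw [h1]; exact one_mem _)
    rw [hzdef] at hz1
    exact (inv_mul_eq_one.1 (Subgroup.mem_bot.1 hz1)).symm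

/-- The product is a normal subsystem. -/
theorem isNormal : D.IsNormalIn F p := by
  refine ⟨h.isWeaklyNormal hD, fun α hα => ?_⟩
  have hU := h.eq_sup hD
  have hUc := h.closed_U hD
  haveI : Finite U := finite_of_le hUc.1
  obtain ⟨q, hq, R, g, hR, hgF, hgE, hgQ, hUR, hαe⟩ :=
    (h.isMap_iff hD).1 ((mem_autGroup_iff le_rfl).1 hα)
  obtain ⟨e, he, hee, heQ⟩ := (isCentral_iff.1 h.central_inf).2 R g hgE
  have hTR : T ≤ R ⊔ Q ⊓ T := fun t ht =>
    h.sup_inf hR ⟨hUR (hU ▸ Subgroup.mem_sup_right ht), ht⟩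
  have hgT : IsMap E T g := (he.mono hTR).congr fun x hx =>
    ((hgF.mono (sup_le_sup_left inf_le_left R)).eqOn_sup (isMap_of_sub h.sub he)
      (fun z hz => (hee z hz).symm) (fun z hz => by rw [hgQ z hz.1, heQ z hz]) (hTR hx))
  haveI : Finite T := finite_of_le h.T_le
  obtain ⟨a, ha, hae⟩ := (isIso_of_mapsTo hgT fun x hx => hgT.mem_S hx).exists_aut
  obtain ⟨b, hb, hbT, hbQ, hbc⟩ := h.exists_ext_fix ha
  have hQC : Q ≤ centralizerIn S T := fun z hz => FusionSys.mem_centralizerIn.2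
    ⟨h.Q_le hz, fun t ht => (h.comm hz ht).symm⟩
  have hTU : T ≤ U := hU ▸ le_sup_right
  have hQU : Q ≤ U := hU ▸ le_sup_left
  have hCU : centralizerIn S U ≤ centralizerIn S T := fun c hc => FusionSys.mem_centralizerIn.2
    ⟨centralizerIn_le hc, fun t ht => (FusionSys.mem_centralizerIn.1 hc).2 t (hTU ht)⟩
  have hX : U ⊔ centralizerIn S U ≤ T ⊔ centralizerIn S T :=
    sup_le (hU ▸ sup_le (hQC.trans le_sup_right) le_sup_left) (hCU.trans le_sup_right)
  have hB : IsMap F (U ⊔ centralizerIn S U) (conjMap q ∘ b) :=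
    (hb.mono hX).comp (isMap_conj F le_rfl (h.Q_le hq)) fun x hx => hb.mem_S (hX hx)
  haveI : Finite (U ⊔ centralizerIn S U : Subgroup Ω) := finite_of_le hB.le
  obtain ⟨β, hβ, hβe⟩ := (isIso_of_mapsTo hB fun y hy => maps_top hUc hB hy).exists_aut
  refine ⟨β, hβ, fun x => ?_, fun c hc => ?_⟩
  · rw [← autMap_coe β, Subgroup.coe_inclusion, hβe _ (Subgroup.mem_sup_left x.2), ← autMap_coe α,
      hαe _ x.2, Function.comp_apply]
    congr 1
    obtain ⟨u, hu, v, hv, huv⟩ := h.exists_mul (hU.le x.2)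
    rw [← huv, hb.map_mul (Subgroup.mem_sup_right (hQC hu)) (Subgroup.mem_sup_left hv), hbQ u hu,
      hbT v hv, hgF.map_mul (Subgroup.mem_sup_right hu) ?_, hgQ u hu, hae v hv]
    exact sup_le_sup_left inf_le_left R (hTR hv)
  · rw [← autMap_coe β, hβe _ c.2]
    have hbC : b c ∈ centralizerIn S U := by
      refine FusionSys.mem_centralizerIn.2 ⟨hb.mem_S (hX c.2), fun z hz => ?_⟩
      obtain ⟨u, hu, v, hv, rfl⟩ := h.exists_mul (hU.le hz)
      have h1 := (FusionSys.mem_centralizerIn.1 (map_cent_top h.T_closed hb (hCU hc))).2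
      have h2 : b (c : Ω) * u = u * b (c : Ω) := by
        conv_lhs => rw [← hbQ u hu]
        conv_rhs => rw [← hbQ u hu]
        rw [← hb.map_mul (hX c.2) (Subgroup.mem_sup_right (hQC hu)),
          ← hb.map_mul (Subgroup.mem_sup_right (hQC hu)) (hX c.2),
          (FusionSys.mem_centralizerIn.1 hc).2 u (hQU hu)]
      rw [mul_assoc, h1 v hv, ← mul_assoc, ← h2, mul_assoc]
    rw [Function.comp_apply, conjMap_apply, (FusionSys.mem_centralizerIn.1 hbC).2 q (hQU hq),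
      mul_inv_cancel_right]
    exact ⟨hTU (hbc _ (hCU hc)), Subgroup.mul_mem _
      (Subgroup.inv_mem _ (FusionSys.mem_centralizerIn.1 hc).2)
      (FusionSys.mem_centralizerIn.1 hbC).2⟩

end Ctx

end Cfsg.Agent.H89.FStar
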